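import Cfsg.Agent.H958.UE.Engine

/-!
# The vertex condition for `chevF4`: data (generated by tools/vtx_cert.py, helper958)
-/

set_option autoImplicit false

namespace Cfsg.Agent.H887.VX.F4

open Cfsg Cfsg.Lie Cfsg.Agent.H958.UE.Engine

/-- the word of `g` -/
def wg : List (ℕ × ℤ) := [(38, 1), (26, 1), (0, 1), (13, 1)]

/-- the word of `h` -/
def wh : List (ℕ × ℤ) := [(33, 1), (14, -1), (33, 1), (25, 1), (22, -1), (25, 1), (27, 1), (20, -1), (27, 1), (33, 1), (14, -1), (33, 1), (25, 1), (22, -1), (25, 1), (27, 1), (20, -1), (27, 1), (25, 1), (22, -1), (25, 1), (24, 1), (23, -1), (24, 1), (25, 1), (22, -1), (25, 1), (27, 1), (20, -1), (27, 1), (33, 1), (14, -1), (33, 1), (25, 1), (22, -1), (25, 1), (27, 1), (20, -1), (27, 1), (25, 1), (22, -1), (25, 1), (24, 1), (23, -1), (24, 1), (25, 1), (22, -1), (25, 1), (27, 1), (20, -1), (27, 1), (33, 1), (14, -1), (33, 1), (25, 1), (22, -1), (25, 1), (27, 1), (20, -1), (27, 1), (25, 1), (22, -1), (25, 1), (33, 1),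 (1, 1), (41, 1), (28, 1)]

/-- the coefficients of the cocharacter -/
def ell : List ℤ := [0, 0, 0, 1]

/-- its values on the fundamental roots -/
def nn : List ℤ := [0, 0, -1, 2]

/-- columns of the word `wg` -/
def tg : List (ℕ × List (ℕ × ℤ)) := [
  (51, [(42, 1), (3, -2), (2, -3), (1, -2), (30, 1), (0, -1), (26, -1), (12, -1), (4, -1), (28, -1), (14, -1), (6, 1), (51, 1)]),
  (50, [(49, 1), (41, 1), (27, -1), (51, 1), (43, -1), (29, 1), (50, 1)]),
  (49, [(25, -1), (30, 1), (2, -1), (3, -1), (49, 1), (51, 1), (31, -1), (15, -1), (33, -1), (17, 1), (44, 1), (35, -1), (18, -1), (9, -1), (36, -1)]),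
  (48, [(38, -1), (22, -1), (40, -1), (24, 1), (48, 1), (3, 2), (2, 2), (1, 2), (0, 1), (42, -1), (13, 1), (51, -2), (43, 1)]),
  (44, [(31, -1), (15, -1), (33, -1), (17, 1), (44, 1), (35, -2), (18, -2), (9, -2), (36, -2)])]

/-- columns of the word `wh` -/
def th : List (ℕ × List (ℕ × ℤ)) := [
  (0, [(13, -1), (38, 2), (0, 1), (1, 1), (43, -1), (22, -1), (49, 2), (48, 1), (25, -2)]),
  (1, [(0, -1), (38, -1)]),
  (2, [(1, -1), (13, 1), (48, -1), (22, 1), (3, -1), (2, -1), (43, 1), (51, 1)]),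
  (3, [(13, -1), (48, 1), (22, -1), (43, -1), (25, 1), (51, -1), (3, 1), (49, -1)]),
  (4, [(50, -1)]),
  (6, [(45, 1), (47, -1)]),
  (9, [(29, -1), (45, -1), (50, -1), (39, -1), (27, 1)]),
  (12, [(32, 1), (41, -1), (44, -1), (49, 2)]),
  (13, [(39, 1), (45, 2)]),
  (14, [(24, -1), (38, -1), (40, -1), (37, -1), (22, 1), (46, -2), (48, -1)]),
  (15, [(32, -1), (41, 1)]),
  (17, [(24, -1), (48, -1), (37, -1), (22, 1)]),
  (18, [(17, -1), (38, 1), (0, 1), (1, 1), (49, 2), (44, -1), (15, 1), (25, -2)]),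
  (22, [(27, 2), (41, 1), (50, -2)]),
  (24, [(20, -2), (37, -1), (47, -2)]),
  (25, [(34, 1)]),
  (26, [(9, -1), (31, -1), (44, -1), (18, 1), (35, -1), (36, -1), (15, 1), (49, 1), (25, -1)]),
  (27, [(50, -1), (27, 1)]),
  (28, [(6, -1), (19, 1), (12, -1), (14, -1), (1, 2), (11, -1), (3, 2), (46, -1), (42, 1), (26, 1), (2, 3), (23, -1), (0, 1), (40, -1), (28, 1), (30, -1), (4, 1), (51, -1)]),
  (29, [(47, -1), (20, -1)]),
  (30, [(21, 1), (46, -1), (19, 1)]),
  (31, [(9, 2), (31, 1), (18, -1), (36, 2), (15, -2), (49, -2), (44, 2), (25, 2)]),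
  (33, [(6, 2), (19, -2), (12, 1), (11, 2), (2, -6), (3, -4), (46, 2), (42, -1), (40, 2), (14, 1), (1, -4), (23, 1), (0, -2), (30, 2), (4, -2), (51, 2)]),
  (35, [(10, 1), (26, 1), (35, -1), (16, -1), (8, 1)]),
  (36, [(46, 1), (51, 1), (40, 1), (6, 1), (0, -1), (1, -2), (11, 1), (19, -1), (2, -3), (3, -2), (30, 1), (4, -1)]),
  (38, [(31, -1), (44, -1), (15, 1), (49, 2), (25, -2)]),
  (40, [(23, -1), (40, -1), (11, -1), (46, -2), (19, 2)]),
  (41, [(44, 1), (15, -1), (49, -2), (25, 2)]),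
  (42, [(16, 1), (33, 1), (7, 1), (26, -2), (42, -1), (12, 1)]),
  (43, [(40, -1), (11, -1), (46, -2), (19, 2)]),
  (44, [(33, -1), (7, -1), (42, 1), (12, -1)]),
  (48, [(3, 4), (12, -1), (2, 6), (0, 2), (1, 4), (4, 2), (42, 1), (51, -2)]),
  (49, [(35, 1), (8, -1)]),
  (50, [(3, 2), (2, 3), (0, 1), (1, 2), (51, -1), (4, 1)]),
  (51, [(28, -1), (5, -1)])]

/-- the minors and their constant coefficients -/
def res : List (List ℕ × ℤ) := [
  ([47], -1),
  ([47, 46], 1),
  ([47, 46, 45], 1),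
  ([47, 46, 45, 44], -1),
  ([47, 46, 45, 44, 40], 1)]

set_option maxRecDepth 100000 in
theorem tab_g : tabOK chevF4 wg tg = true := by decide +kernel

/-- split of a table check -/
theorem tab_split (w : List (ℕ × ℤ)) (T : List (ℕ × List (ℕ × ℤ))) (n : ℕ)
    (h1 : tabOK chevF4 w (T.take n) = true) (h2 : tabOK chevF4 w (T.drop n) = true) :
    tabOK chevF4 w T = true := by
  rw [← List.take_append_drop n T]
  unfold tabOK at *
  rw [List.all_append, h1, h2]
  rfl

set_option maxRecDepth 100000 in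
theorem tab_h1 : tabOK chevF4 wh (th.take 9) = true := by decide +kernel

set_option maxRecDepth 100000 in
theorem tab_h2 : tabOK chevF4 wh ((th.drop 9).take 9) = true := by decide +kernel

set_option maxRecDepth 100000 in
theorem tab_h3 : tabOK chevF4 wh (((th.drop 9).drop 9).take 4) = true := by decide +kernel

set_option maxRecDepth 100000 in
theorem tab_h4 : tabOK chevF4 wh ((((th.drop 9).drop 9).drop 4).take 5) = true := by decide +kernel

set_option maxRecDepth 100000 in
theorem tab_h5 : tabOK chevF4 wh ((((th.drop 9).drop 9).drop 4).drop 5) = true := by decide +kernel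

theorem tab_h : tabOK chevF4 wh th = true :=
  tab_split wh th 9 tab_h1 (tab_split wh _ 9 tab_h2 (tab_split wh _ 4 tab_h3 (tab_split wh _ 5 tab_h4 tab_h5)))

set_option maxRecDepth 100000 in
theorem coc : cocOK chevF4 ell nn = true := by decide +kernel

set_option maxRecDepth 100000 in
theorem min : minOK chevF4 th tg nn res = true := by decide +kernel

end Cfsg.Agent.H887.VX.F4
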